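import Mathlib.Analysis.SpecialFunctions.Gaussian.PoissonSummation
import Mathlib.NumberTheory.ModularForms.JacobiTheta.TwoVariable
import Mathlib.LinearAlgebra.Matrix.Determinant.Basic
import Mathlib.Data.Matrix.Mul
import Mathlib.Algebra.Order.BigOperators.Ring.Finset
import Mathlib.Analysis.SumOverResidueClass
import Mathlib.Data.Fin.Tuple.Basic

/-!
Poisson summation for Gaussians attached to positive definite quadratic forms, by induction on the
rank from the one dimensional formula.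
-/

set_option autoImplicit false
set_option linter.all false

namespace Cfsg.Agent.Lib.LatticeTheta

open Matrix Complex

open scoped Real

variable {n : ℕ}

/-- Symmetric with positive values. -/
def IsPos (A : Matrix (Fin n) (Fin n) ℝ) : Prop :=
  (∀ i j, A i j = A j i) ∧ ∀ x, x ≠ 0 → 0 < x ⬝ᵥ (A *ᵥ x)

theorem IsPos.nonneg {A : Matrix (Fin n) (Fin n) ℝ} (h : IsPos A) (x : Fin n → ℝ) :
    0 ≤ x ⬝ᵥ (A *ᵥ x) := by
  by_cases hx : x = 0
  · simp [hx]
  · exact (h.2 x hx).le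

theorem IsPos.injective {A : Matrix (Fin n) (Fin n) ℝ} (h : IsPos A) {x y : Fin n → ℝ}
    (he : A *ᵥ x = A *ᵥ y) : x = y := by
  by_contra hne
  have := h.2 (x - y) (sub_ne_zero.2 hne)
  rw [mulVec_sub, he, sub_self, dotProduct_zero] at this
  exact lt_irrefl _ this

/-- The coefficients eliminating the first coordinate. -/
noncomputable def lvec (A : Matrix (Fin (n + 1)) (Fin (n + 1)) ℝ) : Fin n → ℝ :=
  fun j => A 0 j.succ / A 0 0

/-- The form left after eliminating the first coordinate. -/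
noncomputable def restForm (A : Matrix (Fin (n + 1)) (Fin (n + 1)) ℝ) : Matrix (Fin n) (Fin n) ℝ :=
  Matrix.of fun i j => A i.succ j.succ - A 0 i.succ * A 0 j.succ / A 0 0

theorem IsPos.diag_pos {A : Matrix (Fin (n + 1)) (Fin (n + 1)) ℝ} (h : IsPos A) : 0 < A 0 0 := by
  have := h.2 (Pi.single 0 1) (by simp [Pi.single_eq_zero_iff])
  simpa [mulVec_single, single_dotProduct] using this

theorem mulVec_cons {A : Matrix (Fin (n + 1)) (Fin (n + 1)) ℝ} (h : IsPos A) (x0 : ℝ) (x : Fin n → ℝ) :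
    (A *ᵥ Fin.cons x0 x) 0 = A 0 0 * (x0 + lvec A ⬝ᵥ x) ∧
      ∀ i : Fin n, (A *ᵥ Fin.cons x0 x) i.succ = lvec A i * (A *ᵥ Fin.cons x0 x) 0 + (restForm A *ᵥ x) i := by
  have ha := h.diag_pos.ne'
  have h0 : (A *ᵥ Fin.cons x0 x) 0 = A 0 0 * (x0 + lvec A ⬝ᵥ x) := by
    simp only [mulVec, dotProduct, Fin.sum_univ_succ, Fin.cons_zero, Fin.cons_succ, lvec, mul_add,
      Finset.mul_sum]
    congr 1
    refine Finset.sum_congr rfl fun j _ => ?_
    field_simp
  refine ⟨h0, fun i => ?_⟩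
  rw [h0]
  simp only [mulVec, dotProduct, Fin.sum_univ_succ, Fin.cons_zero, Fin.cons_succ, lvec, restForm,
    Matrix.of_apply]
  rw [mul_add, mul_add, Finset.mul_sum, Finset.mul_sum, add_assoc, ← Finset.sum_add_distrib, h.1 i.succ 0]
  congr 1
  · field_simp
  · refine Finset.sum_congr rfl fun j _ => ?_
    field_simp
    ring

theorem quad_cons {A : Matrix (Fin (n + 1)) (Fin (n + 1)) ℝ} (h : IsPos A) (x0 : ℝ) (x : Fin n → ℝ) :
    Fin.cons x0 x ⬝ᵥ (A *ᵥ Fin.cons x0 x) =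
      A 0 0 * (x0 + lvec A ⬝ᵥ x) ^ 2 + x ⬝ᵥ (restForm A *ᵥ x) := by
  obtain ⟨h0, hi⟩ := mulVec_cons h x0 x
  have h1 : ∑ i, x i * (lvec A i * (A *ᵥ Fin.cons x0 x) 0) = (lvec A ⬝ᵥ x) * (A *ᵥ Fin.cons x0 x) 0 := by
    simp only [dotProduct, Finset.sum_mul]
    exact Finset.sum_congr rfl fun i _ => by ring
  show ∑ i : Fin (n + 1), (Fin.cons x0 x : Fin (n + 1) → ℝ) i * (A *ᵥ Fin.cons x0 x) i = _
  rw [Fin.sum_univ_succ]
  simp only [Fin.cons_zero, Fin.cons_succ, hi, mul_add, Finset.sum_add_distrib, h1]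
  rw [h0]
  show x0 * _ + (_ + x ⬝ᵥ (restForm A *ᵥ x)) = _
  ring

theorem IsPos.restForm {A : Matrix (Fin (n + 1)) (Fin (n + 1)) ℝ} (h : IsPos A) :
    IsPos (restForm A) := by
  refine ⟨fun i j => ?_, fun x hx => ?_⟩
  · simp only [LatticeTheta.restForm, Matrix.of_apply, h.1 i.succ j.succ]
    ring
  · have := h.2 (Fin.cons (-(lvec A ⬝ᵥ x)) x) (fun e => hx (funext fun i => by simpa using congrFun e i.succ))
    rwa [quad_cons h, neg_add_cancel, zero_pow two_ne_zero, mul_zero, zero_add] at this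

theorem det_eq {A : Matrix (Fin (n + 1)) (Fin (n + 1)) ℝ} (h : IsPos A) :
    A.det = A 0 0 * (restForm A).det := by
  have ha := h.diag_pos.ne'
  let c : Fin (n + 1) → ℝ := Fin.cons 0 (lvec A)
  let N : Matrix (Fin (n + 1)) (Fin (n + 1)) ℝ := Matrix.of fun i j => A i j - c i * A 0 j
  have hd : A.det = N.det := by
    refine (Matrix.det_eq_of_forall_row_eq_smul_add_const c 0 (by simp [c]) fun i j => ?_)
    simp [N, c]
  rw [hd, Matrix.det_succ_column_zero, Fin.sum_univ_succ]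
  have h0 : N 0 0 = A 0 0 := by simp [N, c]
  have hz : ∀ i : Fin n, N i.succ 0 = 0 := fun i => by
    simp [N, c, lvec, h.1 0 i.succ, ha]
  have hsub : N.submatrix (Fin.succAbove 0) Fin.succ = restForm A := by
    ext i j
    simp [N, c, lvec, LatticeTheta.restForm, Fin.succAbove_zero]
    field_simp
  rw [Fin.succAbove_zero] at hsub
  simp [h0, hz, hsub]

/-- A positive definite form dominates a multiple of the sum of squares. -/
theorem exists_lower_bound : ∀ {n : ℕ} {A : Matrix (Fin n) (Fin n) ℝ}, IsPos A →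
    ∃ c > 0, ∀ x : Fin n → ℝ, c * ∑ i, x i ^ 2 ≤ x ⬝ᵥ (A *ᵥ x) := by
  intro n
  induction n with
  | zero => exact fun _ => ⟨1, one_pos, fun x => by simp⟩
  | succ n ih =>
    intro A h
    obtain ⟨c, hc, hb⟩ := ih h.restForm
    set L := ∑ i, lvec A i ^ 2
    have hL : 0 ≤ L := Finset.sum_nonneg fun i _ => sq_nonneg _
    have ha := h.diag_pos
    set K := 2 / A 0 0 + (2 * L + 1) / c with hK
    have hKpos : 0 < K := by positivity
    refine ⟨1 / K, by positivity, fun x => ?_⟩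
    rw [← Fin.cons_self_tail x, quad_cons h, Fin.sum_univ_succ]
    simp only [Fin.cons_zero, Fin.cons_succ]
    set y := Fin.tail x
    set s := ∑ i, y i ^ 2
    have hs : 0 ≤ s := Finset.sum_nonneg fun i _ => sq_nonneg _
    have hcs : (lvec A ⬝ᵥ y) ^ 2 ≤ L * s := Finset.sum_mul_sq_le_sq_mul_sq _ _ _
    set u := x 0 + lvec A ⬝ᵥ y with hu
    set R := y ⬝ᵥ (LatticeTheta.restForm A *ᵥ y)
    have hR : c * s ≤ R := hb y
    have hR0 : 0 ≤ R := h.restForm.nonneg y
    have h1 : x 0 ^ 2 + s ≤ 2 * u ^ 2 + (2 * L + 1) * s := by nlinarith [sq_nonneg (u + lvec A ⬝ᵥ y)]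
    have h2 : 2 * u ^ 2 + (2 * L + 1) * s ≤ K * (A 0 0 * u ^ 2 + R) := by
      have e1 : K * (A 0 0 * u ^ 2 + R) = 2 * u ^ 2 + (2 * L + 1) / c * (A 0 0 * u ^ 2) + K * R := by
        rw [hK]; field_simp
      have e2 : (2 * L + 1) * s ≤ K * R := by
        calc (2 * L + 1) * s = (2 * L + 1) / c * (c * s) := by field_simp
          _ ≤ (2 * L + 1) / c * R := by gcongr
          _ ≤ K * R := by
            refine mul_le_mul_of_nonneg_right ?_ hR0
            rw [hK]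
            have : 0 ≤ 2 / A 0 0 := by positivity
            linarith
      have e3 : 0 ≤ (2 * L + 1) / c * (A 0 0 * u ^ 2) := by positivity
      linarith
    rw [div_mul_eq_mul_div, one_mul, div_le_iff₀ hKpos]
    linarith

theorem summable_exp_sq_shift {c : ℝ} (hc : 0 < c) (w : ℝ) :
    Summable fun m : ℤ => rexp (-c * ((m : ℝ) + w) ^ 2) := by
  have hτ : 0 < (I * (c / π : ℝ) : ℂ).im := by simpa using div_pos hc Real.pi_pos
  have h := ((summable_jacobiTheta₂_term_iff (I * (c * w / π : ℝ)) (I * (c / π : ℝ))).2 hτ).norm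
  refine (h.mul_left (rexp (-c * w ^ 2))).congr fun m => ?_
  rw [norm_jacobiTheta₂_term, ← Real.exp_add]
  simp only [Complex.mul_im, Complex.I_re, Complex.I_im, Complex.ofReal_re, Complex.ofReal_im]
  congr 1
  field_simp
  ring

theorem summable_gauss_box {c : ℝ} (hc : 0 < c) : ∀ {n : ℕ} (w : Fin n → ℝ),
    Summable fun x : Fin n → ℤ => rexp (-c * ∑ i, ((x i : ℝ) + w i) ^ 2) := by
  intro n
  induction n with
  | zero => exact fun w => Summable.of_finite
  | succ n ih =>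
    intro w
    have h := (summable_exp_sq_shift hc (w 0)).mul_of_nonneg (ih (Fin.tail w))
      (fun m => (Real.exp_pos _).le) (fun x => (Real.exp_pos _).le)
    refine ((Fin.consEquiv fun _ : Fin (n + 1) => ℤ).summable_iff).1 (h.congr fun p => ?_)
    simp only [Function.comp_apply, Fin.consEquiv_apply, Fin.sum_univ_succ, Fin.cons_zero, Fin.cons_succ,
      Fin.tail, ← Real.exp_add, mul_add]

theorem summable_gauss {A : Matrix (Fin n) (Fin n) ℝ} (h : IsPos A) (w : Fin n → ℝ) {s : ℝ} (hs : 0 < s) :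
    Summable fun x : Fin n → ℤ =>
      rexp (-s * (((fun i => (x i : ℝ)) + w) ⬝ᵥ (A *ᵥ ((fun i => (x i : ℝ)) + w)))) := by
  obtain ⟨c, hc, hb⟩ := exists_lower_bound h
  refine Summable.of_nonneg_of_le (fun x => (Real.exp_pos _).le) (fun x => ?_)
    (summable_gauss_box (mul_pos hs hc) w)
  refine Real.exp_le_exp.2 ?_
  have := mul_le_mul_of_nonneg_left (hb ((fun i => (x i : ℝ)) + w)) hs.le
  simp only [Pi.add_apply] at this
  linarith

/-- The Gaussian sums of the dual form converge. -/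
theorem summable_gauss_dual {A : Matrix (Fin n) (Fin n) ℝ} (h : IsPos A) (sol : (Fin n → ℝ) → (Fin n → ℝ))
    (hsol : ∀ v, A *ᵥ sol v = v) (w : Fin n → ℝ) :
    Summable fun x : Fin n → ℤ =>
      rexp (-π * (((fun i => (x i : ℝ)) + w) ⬝ᵥ sol ((fun i => (x i : ℝ)) + w))) := by
  obtain ⟨c, hc, hb⟩ := exists_lower_bound h
  set K := 1 + ∑ i, ∑ j, A i j ^ 2 with hK
  have hK0 : 0 < K := by positivity
  refine Summable.of_nonneg_of_le (fun x => (Real.exp_pos _).le) (fun x => ?_)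
    (summable_gauss_box (mul_pos Real.pi_pos (div_pos hc hK0)) w)
  refine Real.exp_le_exp.2 ?_
  set v := (fun i => (x i : ℝ)) + w with hv
  set u := sol v
  have hq : u ⬝ᵥ (A *ᵥ u) = v ⬝ᵥ u := by rw [hsol, dotProduct_comm]
  have h1 := hq ▸ hb u
  have h2 : ∑ i, v i ^ 2 ≤ K * ∑ i, u i ^ 2 := by
    calc ∑ i, v i ^ 2 = ∑ i, (A *ᵥ u) i ^ 2 := by rw [hsol]
      _ ≤ ∑ i, (∑ j, A i j ^ 2) * ∑ j, u j ^ 2 :=
          Finset.sum_le_sum fun i _ => by
            show (∑ j, A i j * u j) ^ 2 ≤ _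
            exact Finset.sum_mul_sq_le_sq_mul_sq _ _ _
      _ = (∑ i, ∑ j, A i j ^ 2) * ∑ j, u j ^ 2 := (Finset.sum_mul _ _ _).symm
      _ ≤ K * ∑ i, u i ^ 2 :=
          mul_le_mul_of_nonneg_right (by rw [hK]; linarith) (Finset.sum_nonneg fun i _ => sq_nonneg _)
  have h3 : c / K * ∑ i, v i ^ 2 ≤ v ⬝ᵥ u := by
    refine le_trans ?_ h1
    calc c / K * ∑ i, v i ^ 2 ≤ c / K * (K * ∑ i, u i ^ 2) := by gcongr
      _ = c * ∑ i, u i ^ 2 := by field_simp
  have h4 := mul_le_mul_of_nonneg_left h3 Real.pi_pos.le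
  simp only [hv, Pi.add_apply] at h4 ⊢
  linarith

/-- The one dimensional formula with a real shift and a real character. -/
theorem poisson_one {a : ℝ} (ha : 0 < a) (c w : ℝ) :
    ∑' m : ℤ, cexp (-π * a * ((m : ℂ) + c) ^ 2 + 2 * π * I * w * m) =
      ((√a)⁻¹ : ℝ) * ∑' m : ℤ, cexp (-π / a * ((m : ℂ) + w) ^ 2 - 2 * π * I * c * ((m : ℂ) + w)) := by
  have key := Complex.tsum_exp_neg_quadratic (a := (a : ℂ)) (by simpa using ha) (-(a * c) + I * w)
  have hsq : 1 / (a : ℂ) ^ (1 / 2 : ℂ) = (((√a)⁻¹ : ℝ) : ℂ) := by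
    rw [Real.sqrt_eq_rpow, Complex.ofReal_inv, Complex.ofReal_cpow ha.le, one_div]
    norm_num
  have hane : (a : ℂ) ≠ 0 := by exact_mod_cast ha.ne'
  have hl : ∀ m : ℤ, cexp (-π * a * ((m : ℂ) + c) ^ 2 + 2 * π * I * w * m) =
      cexp (-π * a * c ^ 2) * cexp (-π * a * (m : ℂ) ^ 2 + 2 * π * (-(a * c) + I * w) * m) := fun m => by
    rw [← Complex.exp_add]
    congr 1
    ring
  rw [tsum_congr hl, tsum_mul_left, key, hsq, mul_left_comm, ← tsum_mul_left]
  congr 1
  rw [← (Equiv.neg ℤ).tsum_eq]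
  refine tsum_congr fun m => ?_
  rw [← Complex.exp_add, Equiv.neg_apply, Int.cast_neg]
  congr 1
  rw [show (-(m : ℂ) + I * (-((a : ℂ) * c) + I * w)) = -(((m : ℂ) + w) + I * a * c) by
    linear_combination (w : ℂ) * Complex.I_mul_I, neg_sq]
  field_simp
  linear_combination (-((a : ℂ) ^ 2 * (c : ℂ) ^ 2)) * Complex.I_sq

set_option maxHeartbeats 1600000 in
/-- Poisson summation for a positive definite form. -/
theorem poisson : ∀ {n : ℕ} {A : Matrix (Fin n) (Fin n) ℝ}, IsPos A →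
    ∀ (sol : (Fin n → ℝ) → (Fin n → ℝ)), (∀ v, A *ᵥ sol v = v) → ∀ w : Fin n → ℝ,
    ∑' x : Fin n → ℤ, cexp (-π * (((fun i => (x i : ℝ)) ⬝ᵥ (A *ᵥ fun i => (x i : ℝ)) : ℝ) : ℂ)
        + 2 * π * I * ((w ⬝ᵥ fun i => (x i : ℝ) : ℝ) : ℂ)) =
      ((√A.det)⁻¹ : ℝ) * ∑' x : Fin n → ℤ,
        cexp (-π * ((((fun i => (x i : ℝ)) + w) ⬝ᵥ sol ((fun i => (x i : ℝ)) + w) : ℝ) : ℂ)) := by
  intro n
  induction n with
  | zero =>
    intro A h sol hsol w
    simp [tsum_fintype, dotProduct, Matrix.det_fin_zero]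
  | succ n ih =>
    intro A h sol hsol w
    set a := A 0 0
    have ha : 0 < a := h.diag_pos
    set l := lvec A
    set A' := restForm A
    have hA' : IsPos A' := h.restForm
    -- solutions of the reduced system
    have hdec : ∀ v, a * (sol v 0 + l ⬝ᵥ Fin.tail (sol v)) = v 0 ∧
        A' *ᵥ Fin.tail (sol v) = Fin.tail v - v 0 • l := by
      intro v
      obtain ⟨h0, hi⟩ := mulVec_cons h (sol v 0) (Fin.tail (sol v))
      rw [Fin.cons_self_tail, hsol] at h0 hi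
      refine ⟨h0.symm, funext fun i => ?_⟩
      simp only [Pi.sub_apply, Pi.smul_apply, smul_eq_mul]
      show (restForm A *ᵥ Fin.tail (sol v)) i = v i.succ - v 0 * lvec A i
      rw [hi i]
      ring
    let sol' : (Fin n → ℝ) → (Fin n → ℝ) := fun v => Fin.tail (sol (Fin.cons 0 v))
    have hsol' : ∀ v, A' *ᵥ sol' v = v := fun v => by
      rw [(hdec (Fin.cons 0 v)).2, Fin.cons_zero, zero_smul, sub_zero, Fin.tail_cons]
    have hR : ∀ v, v ⬝ᵥ sol v = v 0 ^ 2 / a + (Fin.tail v - v 0 • l) ⬝ᵥ sol' (Fin.tail v - v 0 • l) := by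
      intro v
      have hu : sol' (Fin.tail v - v 0 • l) = Fin.tail (sol v) :=
        hA'.injective ((hsol' _).trans (hdec v).2.symm)
      have h0 := (hdec v).1
      rw [hu, sub_dotProduct, smul_dotProduct, smul_eq_mul]
      show ∑ i, v i * sol v i = _
      rw [Fin.sum_univ_succ]
      show v 0 * sol v 0 + Fin.tail v ⬝ᵥ Fin.tail (sol v) = _
      rw [← h0]
      field_simp
      ring
    -- notation
    let cst : (Fin n → ℤ) → (Fin n → ℝ) := fun x i => (x i : ℝ)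
    let E : ℤ → (Fin n → ℤ) → ℂ := fun m x =>
      cexp (-π * a * ((m : ℂ) + ((l ⬝ᵥ cst x : ℝ) : ℂ)) ^ 2 + 2 * π * I * (w 0 : ℂ) * m) *
        cexp (-π * ((cst x ⬝ᵥ (A' *ᵥ cst x) : ℝ) : ℂ) + 2 * π * I * ((Fin.tail w ⬝ᵥ cst x : ℝ) : ℂ))
    let F : ℤ → (Fin n → ℤ) → ℂ := fun m x =>
      cexp (-π / a * ((m : ℂ) + (w 0 : ℂ)) ^ 2) *
        cexp (-π * ((cst x ⬝ᵥ (A' *ᵥ cst x) : ℝ) : ℂ) +
          2 * π * I * (((Fin.tail w - ((m : ℝ) + w 0) • l) ⬝ᵥ cst x : ℝ) : ℂ))
    have hcast : ∀ p : ℤ × (Fin n → ℤ), (fun i => ((Fin.cons p.1 p.2 : Fin (n + 1) → ℤ) i : ℝ)) =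
        Fin.cons (p.1 : ℝ) (cst p.2) := fun p => funext fun i => by
      refine Fin.cases ?_ (fun j => ?_) i <;> simp [cst]
    have hLsum : Summable fun x : Fin (n + 1) → ℤ => cexp (-π * (((fun i => (x i : ℝ)) ⬝ᵥ (A *ᵥ fun i => (x i : ℝ)) : ℝ) : ℂ)
        + 2 * π * I * ((w ⬝ᵥ fun i => (x i : ℝ) : ℝ) : ℂ)) := by
      refine Summable.of_norm ((summable_gauss h 0 Real.pi_pos).congr fun x => ?_)
      rw [Complex.norm_exp, add_zero]
      simp
    have hterm : ∀ p : ℤ × (Fin n → ℤ), cexp (-π * ((((fun i => ((Fin.cons p.1 p.2 : Fin (n + 1) → ℤ) i : ℝ)) ⬝ᵥ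
        (A *ᵥ fun i => ((Fin.cons p.1 p.2 : Fin (n + 1) → ℤ) i : ℝ))) : ℝ) : ℂ)
        + 2 * π * I * ((w ⬝ᵥ fun i => ((Fin.cons p.1 p.2 : Fin (n + 1) → ℤ) i : ℝ) : ℝ) : ℂ)) = E p.1 p.2 := by
      intro p
      rw [hcast, quad_cons h]
      simp only [E, ← Complex.exp_add]
      congr 1
      have : w ⬝ᵥ Fin.cons (p.1 : ℝ) (cst p.2) = w 0 * p.1 + Fin.tail w ⬝ᵥ cst p.2 := by
        simp [dotProduct, Fin.sum_univ_succ, Fin.tail]
      rw [this]
      push_cast
      ring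
    have hEsum : Summable (Function.uncurry E) :=
      (((Fin.consEquiv fun _ : Fin (n + 1) => ℤ).summable_iff).2 hLsum).congr fun p => by
        simp only [Function.comp_apply, Fin.consEquiv_apply]
        exact hterm p
    have hnorm2 : ∀ (x : Fin n → ℤ) (r : ℝ),
        ‖cexp (-π * ((cst x ⬝ᵥ (A' *ᵥ cst x) : ℝ) : ℂ) + 2 * π * I * (r : ℂ))‖ =
          rexp (-π * (cst x ⬝ᵥ (A' *ᵥ cst x))) := fun x r => by
      rw [Complex.norm_exp]; simp
    have hFsum : Summable (Function.uncurry F) := by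
      have h1 := (summable_exp_sq_shift (div_pos Real.pi_pos ha) (w 0)).mul_of_nonneg
        (summable_gauss hA' 0 Real.pi_pos) (fun m => (Real.exp_pos _).le) (fun x => (Real.exp_pos _).le)
      refine Summable.of_norm (h1.congr fun p => ?_)
      simp only [Function.uncurry, F, norm_mul, hnorm2, add_zero]
      rw [Complex.norm_exp]
      congr 2
      rw [show (-(π : ℂ) / a * ((p.1 : ℂ) + (w 0 : ℂ)) ^ 2) = ((-π / a * ((p.1 : ℝ) + w 0) ^ 2 : ℝ) : ℂ) by
        push_cast; ring, Complex.ofReal_re]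
      ring
    rw [← (Fin.consEquiv fun _ : Fin (n + 1) => ℤ).tsum_eq]
    simp only [Fin.consEquiv_apply]
    rw [tsum_congr hterm, show (fun p : ℤ × (Fin n → ℤ) => E p.1 p.2) = Function.uncurry E from rfl,
      hEsum.tsum_prod]
    simp only [Function.uncurry]
    rw [← hEsum.tsum_comm]
    have hstep : ∀ x, ∑' m, E m x = ((√a)⁻¹ : ℝ) * ∑' m, F m x := by
      intro x
      simp only [E, tsum_mul_right, poisson_one ha]
      rw [mul_assoc, ← tsum_mul_right]
      congr 1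
      refine tsum_congr fun m => ?_
      simp only [F, ← Complex.exp_add]
      congr 1
      rw [sub_dotProduct, smul_dotProduct]
      push_cast [smul_eq_mul]
      ring
    rw [tsum_congr hstep, tsum_mul_left, hFsum.tsum_comm]
    have hin : ∀ m : ℤ, ∑' x, F m x = cexp (-π / a * ((m : ℂ) + (w 0 : ℂ)) ^ 2) *
        (((√A'.det)⁻¹ : ℝ) * ∑' x, cexp (-π * (((cst x + (Fin.tail w - ((m : ℝ) + w 0) • l)) ⬝ᵥ
          sol' (cst x + (Fin.tail w - ((m : ℝ) + w 0) • l)) : ℝ) : ℂ))) := fun m => by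
      simp only [F]
      rw [tsum_mul_left, ih hA' sol' hsol']
    simp only [tsum_congr hin, mul_left_comm _ (((√A'.det)⁻¹ : ℝ) : ℂ)]
    rw [tsum_mul_left, ← mul_assoc, ← Complex.ofReal_mul, ← mul_inv, ← Real.sqrt_mul ha.le, ← det_eq h]
    congr 1
    simp only [← tsum_mul_left, ← Complex.exp_add]
    -- regroup the dual sum
    have hRsum : Summable fun x : Fin (n + 1) → ℤ => cexp (-π * ((((fun i => (x i : ℝ)) + w) ⬝ᵥ
        sol ((fun i => (x i : ℝ)) + w) : ℝ) : ℂ)) := by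
      refine Summable.of_norm ((summable_gauss_dual h sol hsol w).congr fun x => ?_)
      rw [Complex.norm_exp]
      simp
    rw [← (Fin.consEquiv fun _ : Fin (n + 1) => ℤ).tsum_eq]
    have h2 := ((Fin.consEquiv fun _ : Fin (n + 1) => ℤ).summable_iff).2 hRsum
    refine Eq.trans ?_ h2.tsum_prod.symm
    refine tsum_congr fun m => tsum_congr fun x => ?_
    simp only [Fin.consEquiv_apply, Function.comp_apply]
    rw [hcast (m, x), hR]
    congr 1
    have e1 : ((Fin.cons (m : ℝ) (cst x) : Fin (n + 1) → ℝ) + w) 0 = (m : ℝ) + w 0 := by simp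
    have e2 : Fin.tail ((Fin.cons (m : ℝ) (cst x) : Fin (n + 1) → ℝ) + w) = cst x + Fin.tail w := funext fun i => by
      simp [Fin.tail]
    rw [e1, e2, add_sub_assoc]
    push_cast
    ring

end Cfsg.Agent.Lib.LatticeTheta
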