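import Cfsg.Agent.Lib.LatticeTheta.Gauss
import Mathlib.NumberTheory.ModularForms.LevelOne.GradedRing
import Mathlib.Analysis.Complex.CauchyIntegral
import Mathlib.Analysis.Analytic.IsolatedZeros
import Mathlib.Analysis.Complex.LocallyUniformLimit
import Mathlib.Analysis.Complex.Convex
import Mathlib.LinearAlgebra.Matrix.NonsingularInverse

/-!
The theta series of an even unimodular lattice of rank 24 is a modular form of level one and
weight 12.
-/

set_option autoImplicit false
set_option linter.all false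

namespace Cfsg.Agent.Lib.LatticeTheta

open Matrix Complex Filter ModularForm MatrixGroups

open UpperHalfPlane hiding I

open scoped Real Topology

variable (B : Matrix (Fin 24) (Fin 24) ℤ)

/-- Positive definite, even, unimodular. -/
structure IsGood : Prop where
  symm : B.IsSymm
  pos : ∀ x : Fin 24 → ℤ, x ≠ 0 → 0 < x ⬝ᵥ (B *ᵥ x)
  even : ∀ x : Fin 24 → ℤ, (2 : ℤ) ∣ x ⬝ᵥ (B *ᵥ x)
  det : B.det = 1

/-- The norm of a lattice vector. -/
def qf (x : Fin 24 → ℤ) : ℤ := x ⬝ᵥ (B *ᵥ x)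

/-- The real Gram matrix. -/
def realMat : Matrix (Fin 24) (Fin 24) ℝ := B.map fun z => (z : ℝ)

variable {B}

theorem IsGood.qf_nonneg (h : IsGood B) (x : Fin 24 → ℤ) : 0 ≤ qf B x := by
  by_cases hx : x = 0
  · simp [qf, hx]
  · exact (h.pos x hx).le

theorem qf_cast (x : Fin 24 → ℤ) :
    (qf B x : ℝ) = (fun i => (x i : ℝ)) ⬝ᵥ (realMat B *ᵥ fun i => (x i : ℝ)) := by
  simp [qf, realMat, dotProduct, mulVec, Matrix.map_apply]

theorem IsGood.realMat_det (h : IsGood B) : (realMat B).det = 1 := by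
  have := (Int.castRingHom ℝ).map_det B
  rw [h.det, map_one] at this
  exact this.symm

/-- A form which is nonnegative on integer vectors is nonnegative. -/
theorem quad_nonneg (h : IsGood B) (x : Fin 24 → ℝ) : 0 ≤ x ⬝ᵥ (realMat B *ᵥ x) := by
  set f : (Fin 24 → ℝ) → ℝ := fun y => y ⬝ᵥ (realMat B *ᵥ y)
  have hf : Continuous f := by
    simp only [f, dotProduct, mulVec]
    fun_prop
  have hrat : ∀ (k : ℕ) (a : Fin 24 → ℤ), 0 < k → 0 ≤ f (fun i => (a i : ℝ) / k) := fun k a hk => by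
    have : f (fun i => (a i : ℝ) / k) = (qf B a : ℝ) / (k : ℝ) ^ 2 := by
      rw [qf_cast]
      simp only [f, dotProduct, mulVec, Finset.sum_div, Finset.mul_sum]
      refine Finset.sum_congr rfl fun i _ => Finset.sum_congr rfl fun j _ => ?_
      field_simp
    rw [this]
    exact div_nonneg (by exact_mod_cast h.qf_nonneg a) (sq_nonneg _)
  have ht : Tendsto (fun (k : ℕ) (i : Fin 24) => ((⌊(k : ℝ) * x i⌋ : ℤ) : ℝ) / k) atTop (𝓝 x) := by
    refine tendsto_pi_nhds.2 fun i => ?_
    have h1 : Tendsto (fun k : ℕ => x i - 1 / (k : ℝ)) atTop (𝓝 (x i)) := by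
      simpa using tendsto_const_nhds.sub (tendsto_one_div_atTop_nhds_zero_nat (𝕜 := ℝ))
    refine tendsto_of_tendsto_of_tendsto_of_le_of_le' h1 tendsto_const_nhds ?_ ?_ <;>
      filter_upwards [eventually_gt_atTop 0] with k hk <;>
      have hk' : (0 : ℝ) < k := by exact_mod_cast hk
    · rw [sub_le_iff_le_add, ← add_div, le_div_iff₀ hk']
      nlinarith [Int.lt_floor_add_one ((k : ℝ) * x i)]
    · rw [div_le_iff₀ hk']
      nlinarith [Int.floor_le ((k : ℝ) * x i)]
  exact ge_of_tendsto ((hf.tendsto x).comp ht)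
    ((eventually_gt_atTop 0).mono fun k hk => hrat k _ hk)

theorem IsGood.isPos (h : IsGood B) : IsPos (realMat B) := by
  have hsym : ∀ i j, realMat B i j = realMat B j i := fun i j => by
    simp only [realMat, Matrix.map_apply]
    rw [h.symm.apply i j]
  refine ⟨hsym, fun x hx => lt_of_le_of_ne (quad_nonneg h x) fun h0 => hx ?_⟩
  -- a zero of a positive semidefinite nonsingular form
  have hlin : ∀ y, x ⬝ᵥ (realMat B *ᵥ y) = y ⬝ᵥ (realMat B *ᵥ x) := fun y => by
    simp only [dotProduct, mulVec, Finset.mul_sum]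
    rw [Finset.sum_comm]
    exact Finset.sum_congr rfl fun i _ => Finset.sum_congr rfl fun j _ => by rw [hsym j i]; ring
  have hy : ∀ y, y ⬝ᵥ (realMat B *ᵥ x) = 0 := by
    intro y
    have hq : ∀ t : ℝ, 0 ≤ 2 * t * (y ⬝ᵥ (realMat B *ᵥ x)) + t ^ 2 * (y ⬝ᵥ (realMat B *ᵥ y)) := fun t => by
      have := quad_nonneg h (x + t • y)
      rw [mulVec_add, mulVec_smul, add_dotProduct, dotProduct_add, dotProduct_add, smul_dotProduct,
        smul_dotProduct, dotProduct_smul, dotProduct_smul, hlin y, ← h0] at this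
      simp only [smul_eq_mul] at this
      linarith
    set b := y ⬝ᵥ (realMat B *ᵥ x)
    set c := y ⬝ᵥ (realMat B *ᵥ y)
    have hc : 0 ≤ c := quad_nonneg h y
    by_contra hb
    have hs := hq (-b / (c + 1))
    have hb2 : 0 < b ^ 2 := by positivity
    have e : 2 * (-b / (c + 1)) * b + (-b / (c + 1)) ^ 2 * c = -(b ^ 2 * (c + 2)) / (c + 1) ^ 2 := by
      field_simp; ring
    rw [e] at hs
    exact absurd hs (not_le.2 (div_neg_of_neg_of_pos (by nlinarith) (by positivity)))
  have hBx : realMat B *ᵥ x = 0 := by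
    refine funext fun i => ?_
    simpa [single_dotProduct] using hy (Pi.single i 1)
  exact Matrix.eq_zero_of_mulVec_eq_zero (by rw [h.realMat_det]; exact one_ne_zero) hBx

theorem IsGood.summable_exp (h : IsGood B) {y : ℝ} (hy : 0 < y) :
    Summable fun x : Fin 24 → ℤ => rexp (-π * y * qf B x) := by
  refine (summable_gauss h.isPos 0 (mul_pos Real.pi_pos hy)).congr fun x => ?_
  rw [add_zero, qf_cast]
  congr 1
  ring

variable (B)

/-- The theta series. -/
noncomputable def theta (z : ℂ) : ℂ := ∑' x : Fin 24 → ℤ, cexp (π * I * (qf B x : ℂ) * z)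

variable {B}

theorem norm_term (x : Fin 24 → ℤ) (z : ℂ) :
    ‖cexp (π * I * (qf B x : ℂ) * z)‖ = rexp (-π * z.im * qf B x) := by
  rw [Complex.norm_exp]
  congr 1
  simp
  ring

theorem IsGood.norm_term_le (h : IsGood B) (x : Fin 24 → ℤ) {z : ℂ} {y : ℝ} (hy : y ≤ z.im) :
    ‖cexp (π * I * (qf B x : ℂ) * z)‖ ≤ rexp (-π * y * qf B x) := by
  rw [norm_term]
  refine Real.exp_le_exp.2 ?_
  have : (0 : ℝ) ≤ qf B x := by exact_mod_cast h.qf_nonneg x
  nlinarith [mul_le_mul_of_nonneg_left (mul_le_mul_of_nonneg_right hy this) Real.pi_pos.le]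

theorem IsGood.differentiableOn_theta (h : IsGood B) :
    DifferentiableOn ℂ (theta B) {z : ℂ | 0 < z.im} := by
  intro z hz
  have hy : 0 < z.im / 2 := half_pos hz
  have ho : IsOpen {w : ℂ | z.im / 2 < w.im} := isOpen_lt continuous_const Complex.continuous_im
  have hd := differentiableOn_tsum_of_summable_norm (F := fun x w => cexp (π * I * (qf B x : ℂ) * w))
    (h.summable_exp hy) (fun x => by fun_prop) ho (fun x w hw => h.norm_term_le x (le_of_lt hw))
  exact (hd.differentiableAt (ho.mem_nhds (show z.im / 2 < z.im by linarith [show (0 : ℝ) < z.im from hz]))).differentiableWithinAt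

theorem theta_add_one (h : IsGood B) (z : ℂ) : theta B (1 + z) = theta B z := by
  refine tsum_congr fun x => ?_
  obtain ⟨k, hk⟩ := h.even x
  rw [show qf B x = 2 * k from hk, mul_add, Complex.exp_add, mul_one,
    show (π : ℂ) * I * ((2 * k : ℤ) : ℂ) = (k : ℂ) * (2 * π * I) by push_cast; ring,
    Complex.exp_int_mul_two_pi_mul_I, one_mul]

theorem theta_I_mul (h : IsGood B) {t : ℝ} (ht : 0 < t) :
    theta B (I * t) = ((t : ℂ) ^ 12)⁻¹ * theta B (I / t) := by
  set A : Matrix (Fin 24) (Fin 24) ℝ := t • realMat B with hA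
  have hAp : IsPos A := by
    refine ⟨fun i j => ?_, fun x hx => ?_⟩
    · simp only [hA, Matrix.smul_apply, h.isPos.1 i j]
    · rw [hA, smul_mulVec, dotProduct_smul, smul_eq_mul]
      exact mul_pos ht (h.isPos.2 x hx)
  have hu : IsUnit (realMat B).det := by rw [h.realMat_det]; exact isUnit_one
  set sol : (Fin 24 → ℝ) → (Fin 24 → ℝ) := fun v => t⁻¹ • ((realMat B)⁻¹ *ᵥ v)
  have hsol : ∀ v, A *ᵥ sol v = v := fun v => by
    simp only [sol, hA]
    rw [smul_mulVec, mulVec_smul, smul_smul, mul_inv_cancel₀ ht.ne', one_smul, mulVec_mulVec,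
      mul_nonsing_inv _ hu, one_mulVec]
  have key := poisson hAp sol hsol 0
  have hdet : ((√A.det)⁻¹ : ℝ) = (t ^ 12)⁻¹ := by
    rw [hA, det_smul, h.realMat_det, mul_one, Fintype.card_fin, show t ^ 24 = (t ^ 12) ^ 2 by ring,
      Real.sqrt_sq (pow_nonneg ht.le _)]
  rw [hdet] at key
  simp only [add_zero, zero_dotProduct, Complex.ofReal_zero, mul_zero] at key
  have huB : IsUnit B.det := by rw [h.det]; exact isUnit_one
  let e : (Fin 24 → ℤ) ≃ (Fin 24 → ℤ) :=
    { toFun := fun x => B *ᵥ x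
      invFun := fun x => B⁻¹ *ᵥ x
      left_inv := fun x => by simp [mulVec_mulVec, nonsing_inv_mul _ huB]
      right_inv := fun x => by simp [mulVec_mulVec, mul_nonsing_inv _ huB] }
  have hcast : ∀ x : Fin 24 → ℤ, (fun i => ((B *ᵥ x) i : ℝ)) = realMat B *ᵥ fun i => (x i : ℝ) :=
    fun x => funext fun i => by simp [realMat, mulVec, dotProduct, Matrix.map_apply]
  refine Eq.trans ?_ (key.trans ?_)
  · refine tsum_congr fun x => ?_
    congr 1
    rw [hA, smul_mulVec, dotProduct_smul, smul_eq_mul, ← qf_cast]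
    push_cast
    linear_combination (π : ℂ) * (qf B x : ℂ) * t * Complex.I_mul_I
  · rw [← e.tsum_eq]
    push_cast
    congr 1
    refine tsum_congr fun x => ?_
    congr 1
    show -(π : ℂ) * (((fun i => ((B *ᵥ x) i : ℝ)) ⬝ᵥ sol fun i => ((B *ᵥ x) i : ℝ) : ℝ) : ℂ) = _
    rw [hcast]
    simp only [sol]
    rw [dotProduct_smul, mulVec_mulVec, nonsing_inv_mul _ hu, one_mulVec, smul_eq_mul, dotProduct_comm,
      ← qf_cast]
    push_cast
    field_simp
    linear_combination -((qf B x : ℂ) * (t : ℂ)⁻¹) * Complex.I_sq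

theorem theta_S (h : IsGood B) {z : ℂ} (hz : 0 < z.im) : theta B (-z)⁻¹ = z ^ 12 * theta B z := by
  set U : Set ℂ := {z : ℂ | 0 < z.im} with hU
  have hUo : IsOpen U := isOpen_lt continuous_const Complex.continuous_im
  have hUc : IsPreconnected U := (convex_halfSpace_im_gt 0).isPreconnected
  have hne : ∀ w ∈ U, w ≠ 0 := fun w hw e => by simp [hU, e] at hw
  have hinv : Set.MapsTo (fun w : ℂ => (-w)⁻¹) U U := fun w hw => by
    simp only [hU, Set.mem_setOf_eq, Complex.inv_im, Complex.neg_im, neg_neg]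
    exact div_pos hw (Complex.normSq_pos.2 (neg_ne_zero.2 (hne w hw)))
  have h1 : AnalyticOnNhd ℂ (fun w => theta B (-w)⁻¹) U :=
    (h.differentiableOn_theta.comp ((differentiableOn_id.neg).inv fun w hw => neg_ne_zero.2 (hne w hw))
      hinv).analyticOnNhd hUo
  have h2 : AnalyticOnNhd ℂ (fun w => w ^ 12 * theta B w) U :=
    (((differentiableOn_id.pow 12)).mul h.differentiableOn_theta).analyticOnNhd hUo
  refine h1.eqOn_of_preconnected_of_frequently_eq h2 hUc (show I ∈ U by simp [hU]) ?_ hz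
  have ht : Tendsto (fun n : ℕ => I * (((1 + 1 / ((n : ℝ) + 1) : ℝ)) : ℂ)) atTop (𝓝[≠] I) := by
    refine tendsto_nhdsWithin_iff.2 ⟨?_, Eventually.of_forall fun n hn => ?_⟩
    · have h3 : Tendsto (fun n : ℕ => (1 + 1 / ((n : ℝ) + 1))) atTop (𝓝 1) := by
        simpa using tendsto_one_div_add_atTop_nhds_zero_nat.const_add (1 : ℝ)
      simpa [Function.comp_def] using ((Complex.continuous_ofReal.tendsto 1).comp h3).const_mul I
    · have h4 := congrArg Complex.im (Set.mem_singleton_iff.1 hn)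
      have h5 : (0 : ℝ) < 1 / ((n : ℝ) + 1) := by positivity
      simp only [Complex.mul_im, Complex.I_re, Complex.I_im, Complex.ofReal_re, Complex.ofReal_im] at h4
      linarith
  refine ht.frequently (Eventually.frequently (Eventually.of_forall fun n => ?_))
  set t : ℝ := 1 + 1 / ((n : ℝ) + 1)
  have htp : 0 < t := by positivity
  have htne : (t : ℂ) ≠ 0 := by exact_mod_cast htp.ne'
  show theta B (-(I * t))⁻¹ = (I * t) ^ 12 * theta B (I * t)
  rw [theta_I_mul h htp, show (-(I * t))⁻¹ = I / (t : ℂ) by rw [inv_neg, mul_inv, Complex.inv_I, neg_mul, neg_neg, div_eq_mul_inv],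
    mul_pow, show I ^ 12 = 1 by rw [show (12 : ℕ) = 4 * 3 from rfl, pow_mul, Complex.I_pow_four, one_pow],
    one_mul, mul_inv_cancel_left₀ (pow_ne_zero _ htne)]

/-- The theta function on the upper half plane. -/
noncomputable def thetaH (B : Matrix (Fin 24) (Fin 24) ℤ) : ℍ → ℂ := fun τ => theta B τ

theorem slash_thetaH (h : IsGood B) (γ : SL(2, ℤ)) : thetaH B ∣[(12 : ℤ)] γ = thetaH B := by
  refine SlashInvariantForm.slash_action_generators_SL2Z ?_ ?_ γ <;> funext τ <;> rw [SL_slash_apply]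
  · rw [ModularGroup.denom_S, modular_S_smul]
    show theta B (-(τ : ℂ))⁻¹ * (τ : ℂ) ^ (-(12 : ℤ)) = theta B τ
    rw [theta_S h τ.im_pos, _root_.zpow_neg, mul_comm ((τ : ℂ) ^ 12), mul_assoc]
    norm_num [τ.ne_zero]
  · rw [modular_T_smul]
    show theta B (((1 : ℝ) : ℂ) + τ) * _ = theta B τ
    rw [Complex.ofReal_one, theta_add_one h, show denom (ModularGroup.T : GL (Fin 2) ℝ) τ = 1 by
      show (((ModularGroup.T 1 0 : ℤ) : ℝ) : ℂ) * (τ : ℂ) + (((ModularGroup.T 1 1 : ℤ) : ℝ) : ℂ) = 1; simp [ModularGroup.T], _root_.one_zpow, mul_one]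

/-- The theta series as a modular form. -/
noncomputable def thetaForm (h : IsGood B) : ModularForm 𝒮ℒ 12 where
  toFun := thetaH B
  slash_action_eq' := fun _ ⟨γ, hγ⟩ => hγ ▸ slash_thetaH h γ
  holo' := by
    refine mdifferentiable_iff.2 (h.differentiableOn_theta.congr fun z hz => ?_)
    show thetaH B (ofComplex z) = theta B z
    rw [thetaH, ofComplex_apply_of_im_pos hz]
  bdd_at_cusps' {c} hc := by
    rw [Subgroup.IsArithmetic.isCusp_iff_isCusp_SL2Z] at hc
    rw [OnePoint.isBoundedAt_iff_forall_SL2Z hc]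
    intro γ _
    rw [slash_thetaH h γ]
    refine isBoundedAtImInfty_iff.2 ⟨∑' x, rexp (-π * 1 * qf B x), 1, fun τ hτ => ?_⟩
    exact tsum_of_norm_bounded (h.summable_exp one_pos).hasSum fun x => h.norm_term_le x hτ

theorem thetaForm_apply (h : IsGood B) (τ : ℍ) : thetaForm h τ = theta B τ := rfl

/-- The `q`-expansion of the theta series counts vectors by norm. -/
theorem thetaForm_coeff (h : IsGood B) (m : ℕ) :
    (qExpansion 1 (thetaForm h)).coeff m = ({x : Fin 24 → ℤ | qf B x = 2 * m}.ncard : ℂ) := by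
  symm
  refine ModularFormClass.qExpansion_coeff_unique (c := fun k : ℕ => ({x : Fin 24 → ℤ | qf B x = 2 * k}.ncard : ℂ))
    one_pos one_mem_strictPeriods_SL (f := thetaForm h) (fun τ => ?_) m
  have hsum : Summable fun x : Fin 24 → ℤ => cexp (π * I * (qf B x : ℂ) * (τ : ℂ)) :=
    Summable.of_norm_bounded (h.summable_exp τ.im_pos) fun x => h.norm_term_le x le_rfl
  have hs : HasSum (fun x : Fin 24 → ℤ => cexp (π * I * (qf B x : ℂ) * (τ : ℂ))) (thetaForm h τ) :=
    hsum.hasSum
  let N : (Fin 24 → ℤ) → ℕ := fun x => (qf B x / 2).toNat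
  have hN : ∀ x k, N x = k ↔ qf B x = 2 * k := fun x k => by
    have h0 := h.qf_nonneg x
    have h1 : (2 : ℤ) ∣ qf B x := h.even x
    simp only [N]
    omega
  refine (hs.tsum_fiberwise N).congr_fun fun k => ?_
  have hset : N ⁻¹' {k} = {x : Fin 24 → ℤ | qf B x = 2 * k} := Set.ext fun x => hN x k
  have hv : ∀ x : ↥(N ⁻¹' {k}), cexp (π * I * (qf B (x : Fin 24 → ℤ) : ℂ) * (τ : ℂ)) =
      Function.Periodic.qParam 1 τ ^ k := fun x => by
    rw [(hN x k).1 x.2, Function.Periodic.qParam, ← Complex.exp_nat_mul]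
    congr 1
    push_cast
    ring
  rw [smul_eq_mul, tsum_congr hv, tsum_const, nsmul_eq_mul, ← hset]
  rfl

end Cfsg.Agent.Lib.LatticeTheta
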